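import Groth.Prelude.Def_W4c2quivmodsheafKron
import Mathlib.LinearAlgebra.Dual.Lemmas
import Mathlib.LinearAlgebra.Pi
import Mathlib.LinearAlgebra.Matrix.ToLinearEquiv
import Mathlib.FieldTheory.IsAlgClosed.Basic
import Mathlib.LinearAlgebra.Eigenspace.Triangularizable

/-!
Elementary facts on (semi)stable Kronecker modules.
-/

set_option autoImplicit false
universe u v w

open Module

namespace Groth.Agent.KronMod

variable {K : Type u} [Field K] {V : Type v} {W : Type w}
  [AddCommGroup V] [Module K V] [FiniteDimensional K V]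
  [AddCommGroup W] [Module K W] [FiniteDimensional K W] {n : ℕ} {f : Fin n → (V →ₗ[K] W)}

/-- The sum map. -/
def sumMap (f : Fin n → (V →ₗ[K] W)) : (Fin n → V) →ₗ[K] W :=
  ∑ j, (f j) ∘ₗ LinearMap.proj j

@[simp] lemma sumMap_apply (f : Fin n → (V →ₗ[K] W)) (v : Fin n → V) :
    sumMap f v = ∑ j, f j (v j) := by simp [sumMap]

lemma sumMap_single (f : Fin n → (V →ₗ[K] W)) (j : Fin n) (x : V) :
    sumMap f (Pi.single j x) = f j x := by
  rw [sumMap_apply, Finset.sum_eq_single j] <;> simp +contextual

/-- Tuples with entries in a submodule. -/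
def piSub (V' : Submodule K V) : (Fin n → V') →ₗ[K] (Fin n → V) :=
  LinearMap.pi fun j => V'.subtype ∘ₗ LinearMap.proj j

lemma piSub_inj (V' : Submodule K V) : Function.Injective (piSub (n := n) V') := by
  intro a b h
  funext j
  exact Subtype.ext (congrFun h j)

lemma finrank_tuples (V' : Submodule K V) :
    Module.finrank K (Fin n → V') = n * Module.finrank K V' := by
  simp [Module.finrank_pi_fintype]

lemma not_top (f : Fin n → (V →ₗ[K] W)) (hf : KronMod.IsSemistable f)
    {W' : Submodule K W} (hW' : ∀ j, LinearMap.range (f j) ≤ W')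
    (hV : 0 < finrank K V) :
    W' = ⊤ ∨ finrank K W ≤ finrank K W' := by
  by_cases h : W' = ⊤
  · exact Or.inl h
  right
  have hsub : KronMod.IsSubrep f ⊤ W' := fun j => by rw [Submodule.map_top]; exact hW' j
  have hne : (⊤ : Submodule K V) ≠ ⊥ := by
    intro e
    have h2 : finrank K (⊤ : Submodule K V) = 0 := by rw [e]; simp
    simp at h2; omega
  have h2 := hf.2 ⊤ W' hsub (fun e => hne e.1) (fun e => h e.2)
  rw [finrank_top, mul_comm] at h2
  exact Nat.le_of_mul_le_mul_left h2 hV

lemma sumMap_surjective (f : Fin n → (V →ₗ[K] W)) (hf : KronMod.IsSemistable f)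
    (hV : 0 < finrank K V) : Function.Surjective (sumMap f) := by
  rw [← LinearMap.range_eq_top]
  rcases not_top f hf (W' := LinearMap.range (sumMap f))
    (fun j => by rintro _ ⟨x, rfl⟩; exact ⟨Pi.single j x, sumMap_single f j x⟩) hV with h | h
  · exact h
  · exact Submodule.eq_top_of_finrank_eq (le_antisymm (Submodule.finrank_le _) h)

lemma iInf_ker_eq_bot (f : Fin n → (V →ₗ[K] W)) (hf : KronMod.IsSemistable f)
    (hW : 0 < finrank K W) : (⨅ j, LinearMap.ker (f j)) = ⊥ := by
  by_contra h
  have hsub : KronMod.IsSubrep f (⨅ j, LinearMap.ker (f j)) ⊥ := by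
    intro j
    rw [Submodule.map_le_iff_le_comap, Submodule.comap_bot]
    exact iInf_le _ j
  have h2 := hf.2 _ _ hsub (fun e => h e.1) (fun e => by
    have h3 : finrank K (⊥ : Submodule K W) = finrank K W := by rw [e.2, finrank_top]
    simp at h3; omega)
  simp only [finrank_bot, mul_zero, nonpos_iff_eq_zero, mul_eq_zero] at h2
  rcases h2 with h2 | h2
  · omega
  · exact h (Submodule.finrank_eq_zero.1 h2)

lemma pi_injective (f : Fin n → (V →ₗ[K] W)) (hf : KronMod.IsSemistable f)
    (hW : 0 < finrank K W) : Function.Injective (LinearMap.pi f) := by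
  rw [← LinearMap.ker_eq_bot, LinearMap.ker_pi, iInf_ker_eq_bot f hf hW]

lemma finrank_mul_le_of_sumMap_inj (hf : Function.Injective (sumMap f))
    {V' : Submodule K V} {W' : Submodule K W} (h : KronMod.IsSubrep f V' W') :
    n * finrank K V' ≤ finrank K W' := by
  have hmem : ∀ x : Fin n → V', (sumMap f ∘ₗ piSub V') x ∈ W' := by
    intro x
    simp only [LinearMap.comp_apply, sumMap_apply]
    exact Submodule.sum_mem _ fun j _ => h j ⟨_, (x j).2, rfl⟩
  have hinj : Function.Injective ((sumMap f ∘ₗ piSub V').codRestrict W' hmem) := by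
    intro a b e
    exact piSub_inj V' (hf (congrArg Subtype.val e))
  have h2 := LinearMap.finrank_le_finrank_of_injective hinj
  rwa [finrank_tuples] at h2

lemma finrank_le_mul_of_pi_inj (hf : Function.Injective (LinearMap.pi f))
    {V' : Submodule K V} {W' : Submodule K W} (h : KronMod.IsSubrep f V' W') :
    finrank K V' ≤ n * finrank K W' := by
  let g : V' →ₗ[K] (Fin n → W') :=
    LinearMap.pi fun j => (f j ∘ₗ V'.subtype).codRestrict W' fun x => h j ⟨_, x.2, rfl⟩
  have hinj : Function.Injective g := by
    intro a b e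
    apply Subtype.ext
    apply hf
    funext j
    exact congrArg Subtype.val (congrFun e j)
  have h2 := LinearMap.finrank_le_finrank_of_injective hinj
  rwa [finrank_tuples] at h2

lemma semistable_iff_sum (hV : 0 < finrank K V) (hW : finrank K W = n * finrank K V) :
    KronMod.IsSemistable f ↔ Function.Bijective (sumMap f) := by
  constructor
  · intro hf
    have hs := sumMap_surjective f hf hV
    exact ⟨(LinearMap.injective_iff_surjective_of_finrank_eq_finrank
      (by rw [Module.finrank_pi_fintype]; simp [hW])).2 hs, hs⟩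
  · intro hb
    refine ⟨by omega, fun V' W' h _ _ => ?_⟩
    have h2 := finrank_mul_le_of_sumMap_inj hb.1 h
    rw [hW]; calc n * finrank K V * finrank K V' = finrank K V * (n * finrank K V') := by ring
      _ ≤ _ := Nat.mul_le_mul_left _ h2

lemma semistable_iff_pi (hW : 0 < finrank K W) (hV : finrank K V = n * finrank K W) :
    KronMod.IsSemistable f ↔ Function.Bijective (LinearMap.pi f) := by
  constructor
  · intro hf
    have hi := pi_injective f hf hW
    exact ⟨hi, (LinearMap.injective_iff_surjective_of_finrank_eq_finrank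
      (by rw [Module.finrank_pi_fintype]; simp [hV])).1 hi⟩
  · intro hb
    refine ⟨by omega, fun V' W' h _ _ => ?_⟩
    have h2 := finrank_le_mul_of_pi_inj hb.1 h
    rw [hV]; calc finrank K W * finrank K V' ≤ finrank K W * (n * finrank K W') :=
          Nat.mul_le_mul_left _ h2
      _ = _ := by ring

lemma IsStable.semistable (h : KronMod.IsStable f) : KronMod.IsSemistable f :=
  ⟨h.1, fun a b c d e => (h.2 a b c d e).le⟩

end Groth.Agent.KronMod
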